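import Cfsg.Agent.H81.GaloisSum
import Cfsg.Agent.H81.SimpleDegree
import Cfsg.Agent.H43.Galois
import Cfsg.Agent.CharBasic.Orth
import Mathlib.NumberTheory.LegendreSymbol.AddCharacter

/-!
# Multiplicities on a cyclic subgroup of prime power order
-/

open scoped ComplexConjugate

namespace Cfsg.Agent.H81.CyclicPair

open CharBasic

universe u

/-- The function with multiplicities `m` on the powers of a generator. -/
noncomputable def evalMult {n : ℕ} [NeZero n] (ζ : ℂ) (m : ZMod n → ℕ) (k : ℕ) : ℂ :=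
  ∑ r : ZMod n, (m r : ℂ) * ζ ^ (k * r.val)

theorem evalMult_eq_addChar {n : ℕ} [NeZero n] {ζ : ℂ} (hζ : IsPrimitiveRoot ζ n) (m : ZMod n → ℕ)
    (k : ℕ) :
    evalMult ζ m k = ∑ r : ZMod n, (m r : ℂ) * AddChar.zmodChar n hζ.pow_eq_one ((k : ZMod n) * r) := by
  refine Finset.sum_congr rfl fun r _ => ?_
  rw [show (k : ZMod n) * r = ((k * r.val : ℕ) : ZMod n) by simp, AddChar.zmodChar_apply']

theorem mult_unique {n : ℕ} [NeZero n] {ζ : ℂ} (hζ : IsPrimitiveRoot ζ n) {m m' : ZMod n → ℕ}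
    (h : ∀ k : ℕ, evalMult ζ m k = evalMult ζ m' k) : m = m' := by
  classical
  funext s
  have key : ∀ m : ZMod n → ℕ, ∑ i : ZMod n, evalMult ζ m i.val *
      AddChar.zmodChar n hζ.pow_eq_one (-(i * s)) = (n : ℂ) * m s := by
    intro m
    have hprim := AddChar.zmodChar_primitive_of_primitive_root n hζ
    calc ∑ i : ZMod n, evalMult ζ m i.val * AddChar.zmodChar n hζ.pow_eq_one (-(i * s))
        = ∑ i : ZMod n, ∑ r : ZMod n,
            (m r : ℂ) * AddChar.zmodChar n hζ.pow_eq_one (i * (r - s)) := by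
          refine Finset.sum_congr rfl fun i _ => ?_
          rw [evalMult_eq_addChar hζ, ZMod.natCast_zmod_val, Finset.sum_mul]
          refine Finset.sum_congr rfl fun r _ => ?_
          rw [mul_assoc, ← AddChar.map_add_eq_mul, mul_sub, sub_eq_add_neg]
      _ = (n : ℂ) * m s := by
          rw [Finset.sum_comm]
          simp only [← Finset.mul_sum, AddChar.sum_mulShift _ hprim, sub_eq_zero, ZMod.card]
          simp [mul_comm]
  have h1 : (n : ℂ) * m s = (n : ℂ) * m' s := by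
    rw [← key m, ← key m']
    exact Finset.sum_congr rfl fun i _ => by rw [h]
  exact_mod_cast mul_left_cancel₀ (Nat.cast_ne_zero.2 (NeZero.ne n)) h1

theorem exists_evalMult {G : Type u} [Group G] [Finite G] {χ : G → ℂ} (hχ : Cfsg.IsCharacter G χ)
    (g : G) {n : ℕ} [NeZero n] (hn : orderOf g = n) {ζ : ℂ} (hζ : IsPrimitiveRoot ζ n) :
    ∃ m : ZMod n → ℕ, ∀ k : ℕ, χ (g ^ k) = evalMult ζ m k := by
  classical
  obtain ⟨N, ζ', e, hζ', hval⟩ := H81.exists_exponents hχ g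
  rw [hn] at hζ'
  obtain ⟨a, -, ha⟩ := hζ.eq_pow_of_pow_eq_one hζ'.pow_eq_one
  refine ⟨fun r => (Finset.univ.filter fun l : Fin N => ((a * e l : ℕ) : ZMod n) = r).card,
    fun k => ?_⟩
  rw [hval, evalMult, ← Finset.sum_fiberwise Finset.univ (fun l : Fin N => ((a * e l : ℕ) : ZMod n))]
  refine Finset.sum_congr rfl fun r _ => ?_
  rw [Finset.sum_congr rfl (g := fun _ => ζ ^ (k * r.val)) fun l hl => ?_, Finset.sum_const,
    nsmul_eq_mul]
  rw [← ha, ← pow_mul, ← pow_mul, ← AddChar.zmodChar_apply' hζ.pow_eq_one,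
    ← AddChar.zmodChar_apply' hζ.pow_eq_one, Nat.cast_mul k, ZMod.natCast_zmod_val,
    ← (Finset.mem_filter.1 hl).2]
  congr 1
  push_cast
  ring

theorem evalMult_zero {n : ℕ} [NeZero n] (ζ : ℂ) (m : ZMod n → ℕ) :
    evalMult ζ m 0 = ((∑ r, m r : ℕ) : ℂ) := by
  simp [evalMult]

/-- The exponents of a cyclic `p`-group not divisible by `p`. -/
def faithfulSet (p n : ℕ) [NeZero n] : Finset (ZMod n) := Finset.univ.filter fun r => ¬ p ∣ r.val

/-- The sum over the elements of order `p`. -/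
theorem sum_evalMult {p n q : ℕ} [Fact p.Prime] [NeZero n] (hq : n = p * q) {ζ : ℂ}
    (hζ : IsPrimitiveRoot ζ n) (m : ZMod n → ℕ) :
    ∑ i ∈ Finset.Ico 1 p, evalMult ζ m (q * i) =
      ((p - 1 : ℕ) : ℂ) * ((∑ r, m r : ℕ) : ℂ) - (p : ℂ) * ((∑ r ∈ faithfulSet p n, m r : ℕ) : ℂ) := by
  classical
  have hp : p.Prime := Fact.out
  have hω : IsPrimitiveRoot (ζ ^ q) p :=
    hζ.pow (NeZero.pos n) (by rw [hq, mul_comm])
  have hfull : ∑ i ∈ Finset.range p, evalMult ζ m (q * i) =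
      (p : ℂ) * ((∑ r ∈ Finset.univ.filter (fun r : ZMod n => p ∣ r.val), m r : ℕ) : ℂ) := by
    simp only [evalMult]
    rw [Finset.sum_comm, Finset.sum_filter, Nat.cast_sum, Finset.mul_sum]
    refine Finset.sum_congr rfl fun r _ => ?_
    rw [← Finset.mul_sum]
    by_cases h : p ∣ r.val
    · rw [if_pos h, Finset.sum_congr rfl (g := fun _ => (1 : ℂ)) fun i _ => ?_, Finset.sum_const,
        Finset.card_range, nsmul_one, mul_comm]
      rw [mul_assoc, pow_mul, hω.pow_eq_one_iff_dvd]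
      exact h.mul_left i
    · rw [if_neg h]
      have h1 : (ζ ^ q) ^ r.val ≠ 1 := fun e => h ((hω.pow_eq_one_iff_dvd _).1 e)
      have h2 : ∑ i ∈ Finset.range p, ((ζ ^ q) ^ r.val) ^ i = 0 := by
        rw [geom_sum_eq h1, ← pow_mul, mul_comm r.val, pow_mul, hω.pow_eq_one, one_pow, sub_self,
          zero_div]
      rw [Finset.sum_congr rfl (g := fun i => ((ζ ^ q) ^ r.val) ^ i) fun i _ => ?_, h2]
      · simp
      · rw [← pow_mul, ← pow_mul]
        ring_nf
  rw [Finset.range_eq_Ico, Finset.sum_eq_sum_Ico_succ_bot hp.pos, mul_zero, evalMult_zero] at hfull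
  have hsplit := Finset.sum_filter_add_sum_filter_not Finset.univ (fun r : ZMod n => p ∣ r.val) m
  rw [eq_sub_iff_add_eq, Nat.cast_sub hp.pos, Nat.cast_one]
  rw [faithfulSet]
  have hsplit' := congrArg (Nat.cast : ℕ → ℂ) hsplit
  push_cast at hsplit' hfull ⊢
  linear_combination hfull + (p : ℂ) * hsplit'

/-- Multiplicities at the powers prime to `n`. -/
theorem evalMult_scale {n : ℕ} [NeZero n] {ζ : ℂ} (hζ : IsPrimitiveRoot ζ n) (m : ZMod n → ℕ)
    (t : (ZMod n)ˣ) (k : ℕ) :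
    evalMult ζ m (k * (t : ZMod n).val) =
      evalMult ζ (fun r => m (((t⁻¹ : (ZMod n)ˣ) : ZMod n) * r)) k := by
  rw [evalMult_eq_addChar hζ, evalMult_eq_addChar hζ]
  refine Fintype.sum_equiv (Units.mulLeft t) _ _ fun r => ?_
  simp [mul_comm, mul_assoc]

theorem map_evalMult {n : ℕ} [NeZero n] {ζ : ℂ} (σ : ℂ ≃+* ℂ) {t : ℕ} (hσ : σ ζ = ζ ^ t)
    (m : ZMod n → ℕ) (k : ℕ) : σ (evalMult ζ m k) = evalMult ζ m (k * t) := by
  simp only [evalMult, map_sum, map_mul, map_natCast, map_pow, hσ, ← pow_mul]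
  refine Finset.sum_congr rfl fun r _ => ?_
  ring_nf

theorem mem_faithfulSet_iff_isUnit {p a n : ℕ} [hp : Fact p.Prime] [NeZero n] (hn : n = p ^ (a + 1))
    (r : ZMod n) : r ∈ faithfulSet p n ↔ IsUnit r := by
  subst hn
  rw [faithfulSet, Finset.mem_filter, and_iff_right (Finset.mem_univ _)]
  conv_rhs => rw [← ZMod.natCast_zmod_val r, ZMod.isUnit_iff_coprime]
  rw [Nat.coprime_pow_right_iff (Nat.succ_pos a), Nat.coprime_comm, hp.out.coprime_iff_not_dvd]

/-- The inequality on the values of the principal block. -/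
theorem cube_sum_lt {ι : Type*} (B : Finset ι) {t : ι} (htB : t ∈ B) {p q e : ℤ}
    (hcase : p = 3 ∧ q = 3 ∨ p = 3 ∧ 9 ≤ q ∨ 5 ≤ p) (hpq : p ≤ q) (he : 2 ≤ e) (hep : e ≤ p - 1)
    (a d : ι → ℤ) (hd : ∀ i ∈ B, 0 < d i) (hat : a t = p - 1) (hdt : d t = 1)
    (hsq : ∑ i ∈ B, a i * a i = (p - 1) * e * q) (horth : ∑ i ∈ B, d i * a i = 0)
    (hbound : ∀ i ∈ B, i ≠ t → 0 < a i → ∃ F, (p - 1) * d i = a i + F ∧ p * e ≤ F ∧
      a i * a i ≤ e * F) :
    ∑ i ∈ B, (a i : ℚ) ^ 3 / (d i : ℚ) < (((p - 1) * (p - 2) * e * q : ℤ) : ℚ) := by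
  classical
  have hrest : ∑ i ∈ B.erase t, a i * a i = (p - 1) * e * q - (p - 1) * (p - 1) := by
    rw [← Finset.add_sum_erase _ _ htB, hat] at hsq
    linarith
  have heq : 2 * p ≤ e * q := (mul_le_mul_of_nonneg_left hpq (by norm_num)).trans
    (mul_le_mul_of_nonneg_right he (by omega))
  obtain ⟨u, v, hu, hv, hX, hroom⟩ : ∃ u v : ℤ, 0 ≤ u ∧ 0 < v ∧
      (∀ i ∈ B, i ≠ t → 0 < a i → v * a i ≤ u * d i) ∧
      v * (p - 1) ^ 3 + u * ((p - 1) * e * q - (p - 1) * (p - 1)) ≤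
        v * ((p - 1) * (p - 2) * e * q) := by
    rcases hcase with ⟨rfl, rfl⟩ | ⟨rfl, hq9⟩ | hp5
    · obtain rfl : e = 2 := by omega
      refine ⟨1, 2, by norm_num, by norm_num, fun i hi hit hai => ?_, by norm_num⟩
      obtain ⟨F, hF, hF1, -⟩ := hbound i hi hit hai
      have h8 : a i * a i ≤ (3 - 1) * 2 * 3 - (3 - 1) * (3 - 1) := by
        rw [← hrest]
        exact Finset.single_le_sum (f := fun i => a i * a i) (fun k _ => mul_self_nonneg _)
          (Finset.mem_erase.2 ⟨hit, hi⟩)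
      have h2 : a i ≤ 2 := by
        by_contra h
        have := Int.mul_le_mul (show 3 ≤ a i by omega) (show 3 ≤ a i by omega) (by norm_num)
          (by omega)
        omega
      omega
    · refine ⟨4, 5, by norm_num, by norm_num, fun i hi hit hai => ?_, ?_⟩
      · obtain ⟨F, hF, hF1, hF2⟩ := hbound i hi hit hai
        have h1 := mul_le_mul_of_nonneg_left hF1 (show (0 : ℤ) ≤ e by omega)
        have h3 : e * (3 * a i) ≤ e * (2 * F) := by
          nlinarith [mul_self_nonneg (2 * a i - 3 * e), mul_self_nonneg e]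
        have h4 := le_of_mul_le_mul_left h3 (by omega : (0 : ℤ) < e)
        omega
      · have : 18 ≤ e * q := (mul_le_mul_of_nonneg_left hq9 (by norm_num : (0 : ℤ) ≤ 2)).trans
          (mul_le_mul_of_nonneg_right he (by omega))
        nlinarith
    · refine ⟨p - 1, 3, by omega, by norm_num, fun i hi hit hai => ?_, ?_⟩
      · obtain ⟨F, hF, hF1, hF2⟩ := hbound i hi hit hai
        have h1 := mul_le_mul_of_nonneg_left hF1 (show (0 : ℤ) ≤ e by omega)
        have h2 := mul_le_mul_of_nonneg_left (mul_le_mul_of_nonneg_right hp5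
          (show (0 : ℤ) ≤ e by omega)) (show (0 : ℤ) ≤ e by omega)
        have h3 : e * (2 * a i) ≤ e * F := by
          nlinarith [mul_self_nonneg (a i - 2 * e), mul_self_nonneg e]
        have h4 := le_of_mul_le_mul_left h3 (by omega : (0 : ℤ) < e)
        linarith
      · have h1 := mul_le_mul_of_nonneg_left heq (show (0 : ℤ) ≤ 2 * p - 5 by omega)
        have h2 : 2 * (p - 1) * (p - 1) ≤ (2 * p - 5) * (2 * p) := by nlinarith
        have h3 := mul_le_mul_of_nonneg_left (h2.trans h1) (show (0 : ℤ) ≤ p - 1 by omega)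
        linarith
  have hle : ∀ i ∈ B.erase t,
      (v : ℚ) * ((a i : ℚ) ^ 3 / (d i : ℚ)) ≤ (u : ℚ) * ((a i : ℚ) * a i) := by
    intro i hi
    obtain ⟨hit, hiB⟩ := Finset.mem_erase.1 hi
    have hD : (0 : ℚ) < d i := by exact_mod_cast hd i hiB
    rw [← mul_div_assoc, div_le_iff₀ hD]
    rcases le_or_gt (a i) 0 with h0 | h0
    · have h0' : (a i : ℚ) ≤ 0 := by exact_mod_cast h0
      have h1 : (a i : ℚ) ^ 3 ≤ 0 := by
        calc (a i : ℚ) ^ 3 = (a i : ℚ) * ((a i : ℚ) * a i) := by ring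
          _ ≤ 0 := mul_nonpos_of_nonpos_of_nonneg h0' (mul_self_nonneg _)
      exact (mul_nonpos_of_nonneg_of_nonpos (by exact_mod_cast hv.le) h1).trans
        (mul_nonneg (mul_nonneg (by exact_mod_cast hu) (mul_self_nonneg _)) hD.le)
    · have h : (v : ℚ) * a i ≤ (u : ℚ) * d i := by exact_mod_cast hX i hiB hit h0
      have := mul_le_mul_of_nonneg_left h (mul_self_nonneg (a i : ℚ))
      linarith
  obtain ⟨i, hi, hneg⟩ : ∃ i ∈ B.erase t, a i < 0 := by
    by_contra hcon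
    push Not at hcon
    have h := Finset.add_sum_erase B (fun i => d i * a i) htB
    simp only [horth, hat, hdt] at h
    have : 0 ≤ ∑ i ∈ B.erase t, d i * a i := Finset.sum_nonneg fun i hi =>
      mul_nonneg (hd i (Finset.mem_of_mem_erase hi)).le (hcon i hi)
    linarith
  have hlt : (v : ℚ) * ((a i : ℚ) ^ 3 / (d i : ℚ)) < (u : ℚ) * ((a i : ℚ) * a i) := by
    have hD : (0 : ℚ) < d i := by exact_mod_cast hd i (Finset.mem_of_mem_erase hi)
    have hneg' : (a i : ℚ) < 0 := by exact_mod_cast hneg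
    have hsqp : (0 : ℚ) < (a i : ℚ) * a i := mul_pos_of_neg_of_neg hneg' hneg'
    have h1 : (a i : ℚ) ^ 3 / (d i : ℚ) < 0 := by
      refine div_neg_of_neg_of_pos ?_ hD
      calc (a i : ℚ) ^ 3 = (a i : ℚ) * ((a i : ℚ) * a i) := by ring
        _ < 0 := mul_neg_of_neg_of_pos hneg' hsqp
    exact (mul_neg_of_pos_of_neg (by exact_mod_cast hv) h1).trans_le
      (mul_nonneg (by exact_mod_cast hu) hsqp.le)
  have hsum := Finset.sum_lt_sum hle ⟨i, hi, hlt⟩
  rw [← Finset.mul_sum, ← Finset.mul_sum] at hsum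
  rw [← Finset.add_sum_erase _ _ htB, hat, hdt]
  have hrest' : ∑ i ∈ B.erase t, (a i : ℚ) * a i =
      (((p - 1) * e * q - (p - 1) * (p - 1) : ℤ) : ℚ) := by rw [← hrest]; push_cast; rfl
  rw [hrest'] at hsum
  have hroom' : (v : ℚ) * (((p - 1 : ℤ) : ℚ)) ^ 3 +
      (u : ℚ) * (((p - 1) * e * q - (p - 1) * (p - 1) : ℤ) : ℚ) ≤
      (v : ℚ) * (((p - 1) * (p - 2) * e * q : ℤ) : ℚ) := by exact_mod_cast hroom
  refine lt_of_mul_lt_mul_left ?_ (show (0 : ℚ) ≤ (v : ℚ) by exact_mod_cast hv.le)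
  rw [Int.cast_one, div_one, mul_add]
  linarith

end Cfsg.Agent.H81.CyclicPair
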