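import Cfsg.Agent.H81.PairSolvable
import Cfsg.Agent.H81.CyclicPair.Values
import Cfsg.Agent.H74.LocalTI
import Cfsg.Agent.Fusion.PComplement

/-!
# Simple groups with a cyclic Sylow subgroup in which pairs generate `p`-solvable groups
-/

open scoped ComplexConjugate

namespace Cfsg.Agent.H81.CyclicPair

open CharBasic BlockBasic SimpleDegree PairSolvable

universe u

variable {G : Type u} [Group G] [Finite G] {p : ℕ} [Fact p.Prime]

/-- In a `p`-solvable group generated by two elements of order `p`, with abelian Sylow subgroups,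
the order of a product of the generators is not divisible by `p ^ 2`. -/
theorem not_sq_dvd {L : Type u} [Group L] [Finite L] (hs : Cfsg.IsPSolvable p L)
    (hab : ∀ R : Sylow p L, IsMulCommutative (R : Subgroup L)) {x y : L}
    (hgen : Subgroup.closure ({x, y} : Set L) = ⊤) (hx : orderOf x = p) (hy : orderOf y = p) :
    ¬ p ^ 2 ∣ orderOf (x * y) := by
  have hp : p.Prime := Fact.out
  set f := QuotientGroup.mk' (Cfsg.pPrimeCore p L) with hf
  have hfs : Function.Surjective f := QuotientGroup.mk'_surjective _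
  have hC := Cores.centralizer_pCore_le (Cores.isPSolvable_quotient hs _)
    (Cores.pPrimeCore_quotient_pPrimeCore (G := L) (p := p))
  set F := Cfsg.pCore p (L ⧸ Cfsg.pPrimeCore p L) with hF
  have hcomm : ∀ (R : Sylow p (L ⧸ Cfsg.pPrimeCore p L)), ∀ v ∈ (R : Subgroup (L ⧸ Cfsg.pPrimeCore p L)),
      ∀ w ∈ (R : Subgroup (L ⧸ Cfsg.pPrimeCore p L)), v * w = w * v := by
    intro R v hv w hw
    obtain ⟨S, hS⟩ := Sylow.mapSurjective_surjective hfs p R
    rw [← hS, Sylow.coe_mapSurjective] at hv hw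
    obtain ⟨v', hv', rfl⟩ := hv
    obtain ⟨w', hw', rfl⟩ := hw
    rw [← map_mul, ← map_mul]
    exact congrArg f (congrArg Subtype.val
      ((hab S).is_comm.comm (⟨v', hv'⟩ : (S : Subgroup L)) ⟨w', hw'⟩))
  have hmemF : ∀ z : L, orderOf z = p → f z ∈ F := by
    intro z hz
    have hzp : IsPGroup p (Subgroup.zpowers (f z)) := by
      refine IsPGroup.of_card_dvd_pow (n := 1) ?_
      rw [Nat.card_zpowers, pow_one]
      exact hz ▸ orderOf_map_dvd f z
    obtain ⟨R, hR⟩ := hzp.exists_le_sylow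
    refine hC (Subgroup.mem_centralizer_iff.2 fun g hg => ?_)
    exact hcomm R g (Cores.pCore_le_sylow R hg) _ (hR (Subgroup.mem_zpowers _))
  obtain ⟨R⟩ : Nonempty (Sylow p (L ⧸ Cfsg.pPrimeCore p L)) := inferInstance
  have hc : Commute (f x) (f y) :=
    hcomm R _ (Cores.pCore_le_sylow R (hmemF x hx)) _ (Cores.pCore_le_sylow R (hmemF y hy))
  have h1 : f ((x * y) ^ p) = 1 := by
    rw [map_pow, map_mul, hc.mul_pow, ← map_pow, ← map_pow]
    rw [show x ^ p = 1 by rw [← hx, pow_orderOf_eq_one],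
      show y ^ p = 1 by rw [← hy, pow_orderOf_eq_one], map_one, mul_one]
  have h2 : orderOf ((x * y) ^ p) ∣ Nat.card (Cfsg.pPrimeCore p L) := by
    have := orderOf_dvd_natCard (⟨_, (QuotientGroup.eq_one_iff _).1 h1⟩ : Cfsg.pPrimeCore p L)
    rwa [Subgroup.orderOf_mk] at this
  intro hd
  have h3 : ¬ p ∣ orderOf ((x * y) ^ p) := fun h =>
    hp.coprime_iff_not_dvd.1 Cores.coprime_card_pPrimeCore.symm (h.trans h2)
  rw [orderOf_pow, Nat.gcd_eq_right ((dvd_pow_self p two_ne_zero).trans hd)] at h3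
  obtain ⟨k, hk⟩ := hd
  rw [hk, pow_two, mul_assoc, Nat.mul_div_cancel_left _ hp.pos] at h3
  exact h3 (Dvd.intro k rfl)

open scoped Classical in
/-- The elements whose `p`-part has order `p`, fibred over their `p`-parts. -/
theorem sum_pPart_eq [Fintype G] (χ : G → ℂ) :
    ∑ w ∈ Finset.univ.filter (fun w : G => orderOf (pPart (p := p) w) = p), χ w =
      ∑ u ∈ Finset.univ.filter (fun u : G => orderOf u = p), sectionSum p χ u := by
  rw [← Finset.sum_fiberwise_of_maps_to (g := fun w => pPart (p := p) w)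
    (t := Finset.univ.filter fun u : G => orderOf u = p) fun w hw => by simpa using hw]
  refine Finset.sum_congr rfl fun u hu => ?_
  simp only [Finset.mem_filter, Finset.mem_univ, true_and] at hu
  symm
  refine Finset.sum_bij' (fun c _ => u * c) (fun w _ => u⁻¹ * w) ?_ ?_ (fun c _ => inv_mul_cancel_left u c)
    (fun w _ => mul_inv_cancel_left u w) (fun c _ => rfl)
  · intro c hc
    simp only [Finset.mem_filter, Finset.mem_univ, true_and,
      Subgroup.mem_centralizer_singleton_iff] at hc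
    have h := pPart_mul_of (p := p) (show Commute u c from hc.1.symm) ⟨1, by rw [hu, pow_one]⟩ hc.2
    simp only [Finset.mem_filter, Finset.mem_univ, true_and]
    exact ⟨by rw [h, hu], h⟩
  · intro w hw
    simp only [Finset.mem_filter, Finset.mem_univ, true_and] at hw ⊢
    have h : u⁻¹ * w = pReg (p := p) w := by rw [pReg, hw.2]
    rw [h, Subgroup.mem_centralizer_singleton_iff]
    refine ⟨?_, not_dvd_orderOf_pReg _⟩
    have := (commute_pPart_pReg (p := p) w).eq
    rw [hw.2] at this
    exact this.symm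

/-- A character twisted by a field automorphism. -/
noncomputable def twist (σ : ℂ ≃+* ℂ) (χ : Cfsg.IrrCharacter G) : Cfsg.IrrCharacter G :=
  ⟨fun g => σ ((χ : G → ℂ) g), H43.aut_irr σ χ.2⟩

@[simp] theorem twist_apply (σ : ℂ ≃+* ℂ) (χ : Cfsg.IrrCharacter G) (g : G) :
    (twist σ χ : G → ℂ) g = σ ((χ : G → ℂ) g) := rfl

variable [IsSimpleGroup G]

set_option maxHeartbeats 4000000 in
theorem eq_two (hna : ∃ v w : G, v * w ≠ w * v) (P : Sylow p G) (hP : IsCyclic (P : Subgroup G))
    (hdvd : p ∣ Nat.card G)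
    (hc : ∀ x y : G, orderOf x = p → orderOf y = p →
      Cfsg.IsPSolvable p (Subgroup.closure ({x, y} : Set G))) : p = 2 := by
  classical
  cases nonempty_fintype G
  have hp : p.Prime := Fact.out
  by_contra hp2
  have hp3 : 3 ≤ p := by have := hp.two_le; omega
  -- the Sylow subgroup and its element of order `p`
  obtain ⟨⟨c, hcP⟩, hgen⟩ := hP.exists_generator
  have hPc : (P : Subgroup G) = Subgroup.zpowers c := by
    refine le_antisymm (fun v hv => ?_) (Subgroup.zpowers_le.2 hcP)
    obtain ⟨k, hk⟩ := Subgroup.mem_zpowers_iff.1 (hgen ⟨v, hv⟩)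
    exact Subgroup.mem_zpowers_iff.2 ⟨k, congrArg Subtype.val hk⟩
  obtain ⟨n, hn⟩ := IsPGroup.iff_card.1 P.isPGroup'
  rcases n with _ | a
  · exfalso
    refine P.not_dvd_index ?_
    rwa [← Subgroup.card_mul_index (P : Subgroup G), hn, pow_zero, one_mul] at hdvd
  obtain ⟨q, hq⟩ : ∃ q, q = p ^ (a + 1) := ⟨_, rfl⟩
  have hcq : orderOf c = q := by rw [← Nat.card_zpowers, ← hPc, hn, hq]
  haveI : NeZero q := ⟨by rw [hq]; exact pow_ne_zero _ hp.ne_zero⟩
  obtain ⟨r, hr⟩ : ∃ r, r = p ^ a := ⟨_, rfl⟩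
  have hqr : q = p * r := by rw [hq, hr, pow_succ, mul_comm]
  set z := c ^ r with hzdef
  have hz : orderOf z = p := by
    rw [hzdef, orderOf_pow, hcq, hqr, Nat.gcd_mul_left_left, Nat.mul_div_cancel _ (by rw [hr]; exact pow_pos hp.pos _)]
  have hzP : z ∈ (P : Subgroup G) := pow_mem hcP r
  have hz1 : z ≠ 1 := fun h => by rw [h, orderOf_one] at hz; exact hp.ne_one hz.symm
  have hab : ∀ (L : Subgroup G) (R : Sylow p L), IsMulCommutative (R : Subgroup L) := by
    intro L R
    obtain ⟨Q, hQ⟩ := (R.isPGroup'.map L.subtype).exists_le_sylow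
    let φ := Q.equiv P
    refine ⟨⟨fun v w => ?_⟩⟩
    have hv : ((v : L) : G) ∈ (Q : Subgroup G) := hQ ⟨_, v.2, rfl⟩
    have hw : ((w : L) : G) ∈ (Q : Subgroup G) := hQ ⟨_, w.2, rfl⟩
    have hcomm : ∀ s t : (P : Subgroup G), s * t = t * s := fun s t =>
      (IsCyclic.commGroup (α := (P : Subgroup G))).mul_comm s t
    have := congrArg φ.symm (hcomm (φ ⟨_, hv⟩) (φ ⟨_, hw⟩))
    simp only [map_mul, MulEquiv.symm_apply_apply] at this
    exact Subtype.ext (Subtype.ext (congrArg Subtype.val this :))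
  -- the elements of order `p` are conjugate to powers of `z`
  have hpowz : ∀ g ∈ (P : Subgroup G), orderOf g = p → ∃ i ∈ Finset.Ico 1 p, g = z ^ i := by
    intro g hg hgo
    rw [hPc] at hg
    obtain ⟨k, rfl⟩ := (Submonoid.mem_powers_iff _ _).1
      (mem_powers_iff_mem_zpowers.2 hg)
    have h1 : c ^ (k * p) = 1 := by
      rw [pow_mul]
      calc (c ^ k) ^ p = (c ^ k) ^ orderOf (c ^ k) := by rw [hgo]
        _ = 1 := pow_orderOf_eq_one _
    rw [← orderOf_dvd_iff_pow_eq_one, hcq, hqr, mul_comm k] at h1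
    obtain ⟨i, rfl⟩ := (mul_dvd_mul_iff_left hp.ne_zero).1 h1
    refine ⟨i % p, Finset.mem_Ico.2 ⟨?_, Nat.mod_lt _ hp.pos⟩, ?_⟩
    · refine Nat.one_le_iff_ne_zero.2 fun h0 => ?_
      have : c ^ (r * i) = 1 := by
        rw [pow_mul, ← hzdef, ← pow_mod_orderOf, hz, h0, pow_zero]
      rw [this, orderOf_one] at hgo
      exact hp.ne_one hgo.symm
    · rw [pow_mul, ← hzdef, ← pow_mod_orderOf z i, hz]
  have hclass : ∀ g : G, orderOf g = p → ∃ i ∈ Finset.Ico 1 p, IsConj (z ^ i) g := by
    intro g hg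
    obtain ⟨Q, hQ⟩ := (IsPGroup.of_card (n := 1) (by rw [Nat.card_zpowers, hg, pow_one]) :
      IsPGroup p (Subgroup.zpowers g)).exists_le_sylow
    obtain ⟨h, hh⟩ := MulAction.exists_smul_eq G Q P
    have hmem : h * g * h⁻¹ ∈ (P : Subgroup G) := by
      rw [← hh, Sylow.coe_subgroup_smul]
      exact Subgroup.smul_mem_pointwise_smul _ (MulAut.conj h) _ (hQ (Subgroup.mem_zpowers g))
    obtain ⟨i, hi, e⟩ := hpowz _ hmem (by rw [← MulAut.conj_apply, MulEquiv.orderOf_eq, hg])
    exact ⟨i, hi, e ▸ (isConj_iff.2 ⟨h, rfl⟩ : IsConj g (h * g * h⁻¹)).symm⟩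
  have hzi : ∀ i ∈ Finset.Ico 1 p, orderOf (z ^ i) = p ∧
      Subgroup.centralizer ({z ^ i} : Set G) = Subgroup.centralizer ({z} : Set G) := by
    intro i hi
    rw [Finset.mem_Ico] at hi
    have hcop : p.Coprime i := hp.coprime_iff_not_dvd.2 (Nat.not_dvd_of_pos_of_lt hi.1 hi.2)
    refine ⟨by rw [Nat.Coprime.orderOf_pow (hz.symm ▸ hcop), hz], ?_⟩
    obtain ⟨j, hj⟩ : ∃ j : ℕ, z ^ (i * j) = z := by
      obtain ⟨j, -, hj⟩ := Nat.exists_mul_mod_eq_one_of_coprime hcop.symm hp.one_lt
      refine ⟨j, ?_⟩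
      rw [← pow_mod_orderOf, hz, hj, pow_one]
    ext g
    rw [Subgroup.mem_centralizer_singleton_iff, Subgroup.mem_centralizer_singleton_iff]
    refine ⟨fun h => ?_, fun h => ((show Commute g z from h).pow_right i).eq⟩
    rw [← hj, pow_mul]
    exact ((show Commute g (z ^ i) from h).pow_right j).eq
  -- the centralizer of `z`
  set C := Subgroup.centralizer ({z} : Set G) with hC
  have hPC : (P : Subgroup G) ≤ C := by
    rw [hPc, Subgroup.zpowers_le]
    exact Subgroup.mem_centralizer_singleton_iff.2 ((Commute.refl c).pow_right r).eq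
  have hcompl : Cfsg.HasNormalPComplement p C := by
    refine Fusion.hasNormalPComplement_of_normalizer_le_centralizer (P.subtype hPC) ?_
    intro w hw
    rw [Sylow.coe_subtype, ← Subgroup.subgroupOf_normalizer_eq hPC] at hw
    have h1 := H74.fix_all p P hP w hw z hzP hz1 (Subgroup.mem_centralizer_singleton_iff.1 w.2)
    rw [Subgroup.mem_centralizer_iff] at h1 ⊢
    rw [Sylow.coe_subtype]
    exact fun v hv => Subtype.ext (h1 (v : G) hv)
  obtain ⟨R, U, hUn, hRU⟩ := hcompl
  obtain ⟨nU, hnU⟩ : ∃ nU, Nat.card U = nU := ⟨_, rfl⟩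
  have hR : Nat.card (R : Subgroup C) = q := by
    rw [← Nat.card_congr ((P.subtype hPC).equiv R).toEquiv, Sylow.coe_subtype,
      Nat.card_congr (Subgroup.subgroupOfEquivOfLe hPC).toEquiv, hn, hq]
  have hCcard : Nat.card C = nU * q := by rw [← hnU, ← hR, hRU.card_mul]
  have hnU0 : (nU : ℂ) ≠ 0 := Nat.cast_ne_zero.2 (hnU ▸ Nat.card_pos.ne')
  have hcent : ∀ u : G, orderOf u = p → Nat.card (Subgroup.centralizer ({u} : Set G)) = nU * q ∧
      ∃ U' : Subgroup (Subgroup.centralizer ({u} : Set G)), U'.Normal ∧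
        (∀ c' : Subgroup.centralizer ({u} : Set G), c' ∈ U' ↔ ¬ p ∣ orderOf c') ∧
        ¬ p ∣ Nat.card U' ∧ Nat.card U' = nU := by
    intro u hu
    obtain ⟨i, hi, hiu⟩ := hclass u hu
    obtain ⟨g, rfl⟩ := isConj_iff.1 hiu
    have hmap : Subgroup.centralizer ({g * z ^ i * g⁻¹} : Set G) = C.map (MulAut.conj g).toMonoidHom := by
      rw [← (hzi i hi).2]
      ext w
      simp only [Subgroup.mem_map, Subgroup.mem_centralizer_singleton_iff]
      constructor
      · intro h
        refine ⟨g⁻¹ * w * g, ?_, by simp [mul_assoc]⟩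
        have h' := congrArg (fun v => g⁻¹ * v * g) h
        simpa [mul_assoc] using h'
      · rintro ⟨v, hv, rfl⟩
        simp only [MulEquiv.coe_toMonoidHom, MulAut.conj_apply]
        have h' := congrArg (fun v => g * v * g⁻¹) hv
        simpa [mul_assoc] using h'
    let ψ : C ≃* Subgroup.centralizer ({g * z ^ i * g⁻¹} : Set G) :=
      (C.equivMapOfInjective _ (MulAut.conj g).injective).trans (MulEquiv.subgroupCongr hmap.symm)
    refine ⟨by rw [← Nat.card_congr ψ.toEquiv, hCcard], U.map ψ.toMonoidHom,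
      hUn.map _ ψ.surjective, fun c' => ?_, ?_, ?_⟩
    · have hUp : ¬ p ∣ Nat.card U := by rw [← hRU.index_eq_card]; exact R.not_dvd_index
      have hUidx : U.index = Nat.card (R : Subgroup C) := hRU.symm.index_eq_card
      have hmem : ∀ v : C, v ∈ U ↔ ¬ p ∣ orderOf v := by
        intro v
        refine ⟨fun h hd => hUp (hd.trans ?_), fun h => ?_⟩
        · have := orderOf_dvd_natCard (⟨v, h⟩ : U)
          rwa [Subgroup.orderOf_mk] at this
        · rw [← QuotientGroup.eq_one_iff, ← orderOf_eq_one_iff]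
          have h1 : orderOf (v : C ⧸ U) ∣ orderOf v := orderOf_map_dvd (QuotientGroup.mk' U) v
          have h2 : orderOf (v : C ⧸ U) ∣ p ^ (a + 1) := by
            rw [← hq, ← hR, ← hUidx]
            exact orderOf_dvd_natCard _
          exact Nat.eq_one_of_dvd_coprimes ((hp.coprime_iff_not_dvd.2 h).pow_left (a + 1)) h2 h1
      obtain ⟨v, rfl⟩ := ψ.surjective c'
      rw [MulEquiv.orderOf_eq, ← hmem]
      exact Subgroup.mem_map_iff_mem ψ.injective
    · rw [Subgroup.card_map_of_injective (f := ψ.toMonoidHom) ψ.injective, ← hRU.index_eq_card]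
      exact R.not_dvd_index
    · rw [Subgroup.card_map_of_injective (f := ψ.toMonoidHom) ψ.injective, hnU]
  -- the fusion of the powers of `z`
  set E := (Finset.Ico 1 p).filter fun i => IsConj z (z ^ i) with hE
  set e := E.card with he
  have he2 : 2 ≤ e := by
    by_contra hlt
    have hcard : E.card ≤ 1 := by omega
    have h1E : 1 ∈ E := Finset.mem_filter.2 ⟨Finset.mem_Ico.2 ⟨le_rfl, hp.one_lt⟩, by rw [pow_one]⟩
    have hNC : Subgroup.normalizer ((P : Subgroup G) : Set G) ≤
        Subgroup.centralizer ((P : Subgroup G) : Set G) := by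
      intro g hg
      obtain ⟨i, hi, hgi⟩ := hpowz (g * z * g⁻¹) ((Subgroup.mem_normalizer_iff.1 hg z).1 hzP)
        (by rw [← MulAut.conj_apply, MulEquiv.orderOf_eq, hz])
      have hiE : i ∈ E := Finset.mem_filter.2 ⟨hi, isConj_iff.2 ⟨g, hgi⟩⟩
      rw [Finset.card_le_one.1 hcard i hiE 1 h1E, pow_one] at hgi
      exact H74.fix_all p P hP g hg z hzP hz1 (mul_inv_eq_iff_eq_mul.1 hgi)
    obtain ⟨Q, N, hN, hQN⟩ := Fusion.hasNormalPComplement_of_normalizer_le_centralizer P hNC
    have hQ : Nat.card (Q : Subgroup G) = q := by rw [Nat.card_congr (Q.equiv P).toEquiv, hn, hq]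
    rcases hN.eq_bot_or_eq_top with rfl | rfl
    · have htop := hQN.card_mul
      rw [Subgroup.card_bot, one_mul] at htop
      have hPtop : (P : Subgroup G) = ⊤ := Subgroup.eq_top_of_card_eq _ (by rw [hn, ← hq, ← hQ, htop])
      obtain ⟨v, w, hvw⟩ := hna
      have hv : v ∈ Subgroup.zpowers c := by rw [← hPc, hPtop]; trivial
      have hw : w ∈ Subgroup.zpowers c := by rw [← hPc, hPtop]; trivial
      obtain ⟨k, rfl⟩ := Subgroup.mem_zpowers_iff.1 hv
      obtain ⟨l, rfl⟩ := Subgroup.mem_zpowers_iff.1 hw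
      exact hvw (zpow_mul_comm c k l)
    · have htop := hQN.card_mul
      rw [Subgroup.card_top] at htop
      have h1 : Nat.card (Q : Subgroup G) = 1 := by
        have := Nat.card_pos (α := G)
        exact (Nat.mul_eq_left this.ne').1 htop
      rw [hQ, hq] at h1
      exact absurd ((Nat.pow_eq_one.1 h1).resolve_right (Nat.succ_ne_zero a)) hp.ne_one
  have hep : e ≤ p - 1 := (Finset.card_filter_le _ _).trans (by rw [Nat.card_Ico])
  -- each class is counted `e` times
  set K := Finset.univ.filter fun g : G => orderOf g = p with hK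
  have hcl : ∀ i ∈ Finset.Ico 1 p, Finset.univ.filter (fun g : G => IsConj (z ^ i) g) =
      K.filter (fun g => IsConj (z ^ i) g) := by
    intro i hi
    ext g
    simp only [hK, Finset.mem_filter, Finset.mem_univ, true_and, iff_and_self]
    intro h
    obtain ⟨v, rfl⟩ := isConj_iff.1 h
    rw [← MulAut.conj_apply, MulEquiv.orderOf_eq, (hzi i hi).1]
  have hcount_e : ∀ g ∈ K, ((Finset.Ico 1 p).filter fun i => IsConj (z ^ i) g).card = e := by
    intro g hg
    obtain ⟨j, hj, hjg⟩ := hclass g (Finset.mem_filter.1 hg).2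
    rw [Finset.mem_Ico] at hj
    have hcop : p.Coprime j := hp.coprime_iff_not_dvd.2 (Nat.not_dvd_of_pos_of_lt hj.1 hj.2)
    obtain ⟨l, -, hl⟩ := Nat.exists_mul_mod_eq_one_of_coprime hcop.symm hp.one_lt
    have hlc : p.Coprime l := hp.coprime_iff_not_dvd.2 fun h => by
      rw [Nat.mod_eq_zero_of_dvd (dvd_mul_of_dvd_right h j)] at hl
      exact zero_ne_one hl
    have hzm : ∀ m, z ^ (m % p) = z ^ m := fun m => by rw [← hz]; exact pow_mod_orderOf z m
    have hne : ∀ i m, i ∈ Finset.Ico 1 p → p.Coprime m → i * m % p ∈ Finset.Ico 1 p := by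
      intro i m hi hm
      rw [Finset.mem_Ico] at hi ⊢
      refine ⟨Nat.one_le_iff_ne_zero.2 fun h0 => ?_, Nat.mod_lt _ hp.pos⟩
      exact Nat.not_dvd_of_pos_of_lt hi.1 hi.2 (hm.dvd_of_dvd_mul_right (Nat.dvd_of_mod_eq_zero h0))
    have hback : ∀ i ∈ Finset.Ico 1 p, ∀ m m', m * m' % p = 1 → i * m % p * m' % p = i := by
      intro i hi m m' hmm
      rw [Finset.mem_Ico] at hi
      rw [Nat.mod_mul_mod, mul_assoc, ← Nat.mul_mod_mod, hmm, mul_one, Nat.mod_eq_of_lt hi.2]
    rw [he]
    refine Finset.card_bij' (fun i _ => i * l % p) (fun i _ => i * j % p) ?_ ?_ ?_ ?_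
    · intro i hi
      simp only [hE, Finset.mem_filter] at hi ⊢
      refine ⟨hne i l hi.1 hlc, ?_⟩
      rw [hzm, pow_mul]
      have h := (hjg.trans hi.2.symm).pow l
      rwa [← pow_mul, ← hzm, hl, pow_one] at h
    · intro i hi
      simp only [hE, Finset.mem_filter] at hi ⊢
      refine ⟨hne i j hi.1 hcop, ?_⟩
      rw [hzm, pow_mul]
      exact (hi.2.symm.pow j).trans hjg
    · exact fun i hi => hback i (Finset.mem_filter.1 hi).1 l j (by rw [mul_comm, hl])
    · exact fun i hi => hback i (Finset.mem_filter.1 hi).1 j l hl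
  obtain ⟨k, hk⟩ : ∃ k, C.index = k := ⟨_, rfl⟩
  have hclasscard : ∀ i ∈ Finset.Ico 1 p,
      (Finset.univ.filter fun g : G => IsConj (z ^ i) g).card = k := by
    intro i hi
    rw [← hk, ← Fintype.card_subtype, ← Nat.card_eq_fintype_card, card_class_eq_index, (hzi i hi).2]
  have hdouble : ∀ f : G → ℂ, (∀ g v : G, f (v * g * v⁻¹) = f g) →
      (e : ℂ) * ∑ g ∈ K, f g = (k : ℂ) * ∑ i ∈ Finset.Ico 1 p, f (z ^ i) := by
    intro f hf
    rw [Finset.mul_sum, Finset.mul_sum,
      Finset.sum_congr rfl (g := fun g => ∑ i ∈ Finset.Ico 1 p, if IsConj (z ^ i) g then f g else 0)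
        fun g hg => by rw [← Finset.sum_filter, Finset.sum_const, hcount_e g hg, nsmul_eq_mul],
      Finset.sum_comm]
    refine Finset.sum_congr rfl fun i hi => ?_
    rw [← Finset.sum_filter, ← hcl i hi, Finset.sum_congr rfl (g := fun _ => f (z ^ i)) fun g hg => ?_,
      Finset.sum_const, hclasscard i hi, nsmul_eq_mul]
    obtain ⟨v, rfl⟩ := isConj_iff.1 (Finset.mem_filter.1 hg).2
    exact hf _ v
  have hKcard : (e : ℂ) * (K.card : ℂ) = (k : ℂ) * ((p - 1 : ℕ) : ℂ) := by
    have := hdouble (fun _ => 1) fun _ _ => rfl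
    simpa using this
  -- multiplicities
  set ζ := Complex.exp (2 * Real.pi * Complex.I / q) with hζdef
  have hζ : IsPrimitiveRoot ζ q := Complex.isPrimitiveRoot_exp q (NeZero.ne q)
  choose m hm using fun χ : Cfsg.IrrCharacter G =>
    exists_evalMult (IsIrr.isCharacter χ.2) c hcq hζ
  let D : Cfsg.IrrCharacter G → ℕ := fun χ => ∑ x ∈ faithfulSet p q, m χ x
  let d : Cfsg.IrrCharacter G → ℕ := fun χ => Cfsg.charDegree (χ : G → ℂ)
  let A : Cfsg.IrrCharacter G → ℤ := fun χ => ((p : ℤ) - 1) * d χ - (p : ℤ) * D χ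
  have hdsum : ∀ χ : Cfsg.IrrCharacter G, d χ = ∑ x, m χ x := by
    intro χ
    have h := hm χ 0
    rw [pow_zero, evalMult_zero, apply_one_eq_charDegree] at h
    exact_mod_cast h
  have hA : ∀ χ : Cfsg.IrrCharacter G, ∑ i ∈ Finset.Ico 1 p, (χ : G → ℂ) (z ^ i) = (A χ : ℂ) := by
    intro χ
    simp only [hzdef, ← pow_mul, hm]
    rw [sum_evalMult hqr hζ, ← hdsum]
    simp only [A, D, Nat.cast_sub hp.pos]
    push_cast
    ring
  -- the sections
  obtain ⟨M, hMp⟩ := exists_isPModular hp
  set B := Finset.univ.filter fun χ : Cfsg.IrrCharacter G => χ ∈ Cfsg.principalBlock M G with hB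
  have htB : (trivialIrr : Cfsg.IrrCharacter G) ∈ B := by
    simp only [hB, Finset.mem_filter, Finset.mem_univ, true_and]
    exact sameBlock_refl hMp _
  have hS : ∀ (χ : Cfsg.IrrCharacter G) (u : G), orderOf u = p → sectionSum p (χ : G → ℂ) u =
      if χ ∈ B then (nU : ℂ) * (χ : G → ℂ) u else 0 := by
    intro χ u hu
    obtain ⟨-, U', hn', hU', hUp', hcard'⟩ := hcent u hu
    haveI := hn'
    obtain ⟨h1, h2⟩ := sectionSum_eq u hMp hu U' hU' hUp' χ
    split_ifs with h
    · rw [h1 (Finset.mem_filter.1 h).2, hcard']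
    · exact h2 fun h' => h (Finset.mem_filter.2 ⟨Finset.mem_univ _, h'⟩)
  have hweight : ∀ (u w : G), orderOf u = p → (∀ c' ∈ Finset.univ.filter (fun c' : G =>
      c' ∈ Subgroup.centralizer ({u} : Set G) ∧ ¬ p ∣ orderOf c'), IsConj (u * c') w → c' = 1) →
      ∑ χ ∈ B, (χ : G → ℂ) u * conj ((χ : G → ℂ) w) * (nU : ℂ) =
        ∑ χ : Cfsg.IrrCharacter G, (χ : G → ℂ) u * conj ((χ : G → ℂ) w) := by
    intro u w hu hw
    have hl : ∑ χ : Cfsg.IrrCharacter G, sectionSum p (χ : G → ℂ) u * conj ((χ : G → ℂ) w) =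
        ∑ χ ∈ B, (χ : G → ℂ) u * conj ((χ : G → ℂ) w) * (nU : ℂ) := by
      simp only [hS _ u hu, ite_mul, zero_mul]
      rw [Finset.sum_ite_mem, Finset.univ_inter]
      exact Finset.sum_congr rfl fun χ _ => by ring
    rw [← hl]
    simp only [sectionSum, Finset.sum_mul]
    rw [Finset.sum_comm, Finset.sum_eq_single (1 : G)]
    · simp
    · intro v hv hv1
      exact second_orthogonality_not_isConj fun h => hv1 (hw v hv h)
    · intro h
      exact absurd (Finset.mem_filter.2 ⟨Finset.mem_univ _, one_mem _, by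
        rw [orderOf_one, Nat.dvd_one]; exact hp.ne_one⟩) h
  have hAconj : ∀ χ : Cfsg.IrrCharacter G,
      ∑ i ∈ Finset.Ico 1 p, conj ((χ : G → ℂ) (z ^ i)) = (A χ : ℂ) := by
    intro χ
    rw [← map_sum, hA, map_intCast]
  have horth : ∑ χ ∈ B, (d χ : ℤ) * A χ = 0 := by
    have h0 : ∀ i ∈ Finset.Ico 1 p,
        ∑ χ ∈ B, (χ : G → ℂ) (z ^ i) * (d χ : ℂ) * (nU : ℂ) = 0 := by
      intro i hi
      have hne : ¬ IsConj (z ^ i) 1 := fun h => by
        have := (hzi i hi).1
        rw [isConj_one_left.1 h, orderOf_one] at this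
        exact hp.ne_one this.symm
      have h := hweight (z ^ i) 1 (hzi i hi).1 fun c' hc' h => by
        simp only [Finset.mem_filter, Finset.mem_univ, true_and,
          Subgroup.mem_centralizer_singleton_iff] at hc'
        have h1 := pPart_mul_of (p := p) (show Commute (z ^ i) c' from hc'.1.symm)
          ⟨1, by rw [(hzi i hi).1, pow_one]⟩ hc'.2
        rw [isConj_one_left.1 h, (pPart_eq_one_iff (1 : G)).2
          (by rw [orderOf_one, Nat.dvd_one]; exact hp.ne_one)] at h1
        exact absurd (isConj_iff.2 ⟨1, by simp [← h1]⟩) hne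
      rw [second_orthogonality_not_isConj hne] at h
      simpa only [apply_one_eq_charDegree, map_natCast] using h
    have h' : ((∑ χ ∈ B, (d χ : ℤ) * A χ : ℤ) : ℂ) * (nU : ℂ) = 0 := by
      push_cast
      simp only [← hA, Finset.mul_sum, Finset.sum_mul]
      rw [Finset.sum_comm]
      refine Finset.sum_eq_zero fun i hi => ?_
      rw [← h0 i hi]
      exact Finset.sum_congr rfl fun χ _ => by ring
    exact_mod_cast (mul_eq_zero.1 h').resolve_right hnU0
  have hsq : ∑ χ ∈ B, A χ * A χ = ((p : ℤ) - 1) * e * q := by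
    have hpair : ∀ i ∈ Finset.Ico 1 p, ∀ j ∈ Finset.Ico 1 p,
        ∑ χ ∈ B, (χ : G → ℂ) (z ^ i) * conj ((χ : G → ℂ) (z ^ j)) * (nU : ℂ) =
          if IsConj (z ^ i) (z ^ j) then (nU : ℂ) * q else 0 := by
      intro i hi j hj
      rw [hweight (z ^ i) (z ^ j) (hzi i hi).1 fun c' hc' h => ?_]
      · split_ifs with h
        · obtain ⟨v, hv⟩ := isConj_iff.1 h
          rw [← hv, Finset.sum_congr rfl (g := fun χ : Cfsg.IrrCharacter G =>
            (χ : G → ℂ) (z ^ i) * conj ((χ : G → ℂ) (z ^ i))) fun χ _ => by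
              rw [IsIrr.isClassFunction χ.2], second_orthogonality_self, (hzi i hi).2, hCcard]
          push_cast
          rfl
        · exact second_orthogonality_not_isConj h
      · simp only [Finset.mem_filter, Finset.mem_univ, true_and,
          Subgroup.mem_centralizer_singleton_iff] at hc'
        have h1 := pPart_mul_of (p := p) (show Commute (z ^ i) c' from hc'.1.symm)
          ⟨1, by rw [(hzi i hi).1, pow_one]⟩ hc'.2
        obtain ⟨v, hv⟩ := isConj_iff.1 h
        have h2 : orderOf (z ^ i * c') = p := by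
          rw [← MulEquiv.orderOf_eq (MulAut.conj v), MulAut.conj_apply, hv, (hzi j hj).1]
        rw [(pPart_eq_self_iff _).2 ⟨1, by rw [h2, pow_one]⟩] at h1
        exact mul_eq_left.1 h1
    have h' : ((∑ χ ∈ B, A χ * A χ : ℤ) : ℂ) * (nU : ℂ) =
        ((((p : ℤ) - 1) * e * q : ℤ) : ℂ) * (nU : ℂ) := by
      rw [Int.cast_sum, Finset.sum_mul]
      calc ∑ χ ∈ B, ((A χ * A χ : ℤ) : ℂ) * (nU : ℂ)
          = ∑ χ ∈ B, ∑ i ∈ Finset.Ico 1 p, ∑ j ∈ Finset.Ico 1 p,
              (χ : G → ℂ) (z ^ i) * conj ((χ : G → ℂ) (z ^ j)) * (nU : ℂ) := by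
            refine Finset.sum_congr rfl fun χ _ => ?_
            rw [Int.cast_mul]
            conv_lhs => arg 1; arg 2; rw [← hAconj χ]
            rw [← hA χ, Finset.sum_mul_sum, Finset.sum_mul]
            exact Finset.sum_congr rfl fun i _ => by rw [Finset.sum_mul]
        _ = ∑ i ∈ Finset.Ico 1 p, ∑ j ∈ Finset.Ico 1 p,
              if IsConj (z ^ i) (z ^ j) then (nU : ℂ) * q else 0 := by
            rw [Finset.sum_comm]
            refine Finset.sum_congr rfl fun i hi => ?_
            rw [Finset.sum_comm]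
            exact Finset.sum_congr rfl fun j hj => hpair i hi j hj
        _ = ∑ j ∈ Finset.Ico 1 p, (e : ℂ) * ((nU : ℂ) * q) := by
            rw [Finset.sum_comm]
            refine Finset.sum_congr rfl fun j hj => ?_
            rw [← Finset.sum_filter, Finset.sum_const,
              hcount_e _ (Finset.mem_filter.2 ⟨Finset.mem_univ _, (hzi j hj).1⟩), nsmul_eq_mul]
        _ = _ := by
            rw [Finset.sum_const, Nat.card_Ico, nsmul_eq_mul, Nat.cast_sub hp.pos]
            push_cast
            ring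
    exact_mod_cast mul_right_cancel₀ hnU0 h'
  -- the trivial character
  have htriv1 : ∀ g : G, ((trivialIrr : Cfsg.IrrCharacter G) : G → ℂ) g = 1 := fun _ => rfl
  have hAt : A trivialIrr = (p : ℤ) - 1 := by
    have := hA trivialIrr
    simp only [htriv1, Finset.sum_const, Nat.card_Ico, nsmul_eq_mul, mul_one,
      Nat.cast_sub hp.pos] at this
    exact_mod_cast this.symm
  have hdt : (d trivialIrr : ℤ) = 1 := by
    have := apply_one_eq_charDegree (trivialIrr : Cfsg.IrrCharacter G)
    rw [htriv1] at this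
    exact_mod_cast this.symm
  -- the bound for a non-trivial character
  have hbound : ∀ χ ∈ B, χ ≠ trivialIrr → 0 < A χ → ∃ F : ℤ, ((p : ℤ) - 1) * d χ = A χ + F ∧
      (p : ℤ) * e ≤ F ∧ A χ * A χ ≤ (e : ℤ) * F := by
    intro χ hχB hχ hpos
    refine ⟨(p : ℤ) * D χ, by simp only [A]; ring, ?_, ?_⟩
    · -- each eigenvalue of `z` occurs with its conjugates
      haveI : NeZero p := ⟨hp.ne_zero⟩
      have hω : IsPrimitiveRoot (ζ ^ r) p := hζ.pow (NeZero.pos q) (by rw [hqr, mul_comm])
      obtain ⟨m', hm'⟩ := exists_evalMult (IsIrr.isCharacter χ.2) z hz hω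
      have hd' : d χ = ∑ x, m' x := by
        have h := hm' 0
        rw [pow_zero, evalMult_zero, apply_one_eq_charDegree] at h
        exact_mod_cast h
      have hD' : D χ = ∑ x ∈ faithfulSet p p, m' x := by
        have h := sum_evalMult (p := p) (q := 1) (mul_one p).symm hω m'
        simp only [one_mul, ← hm', hA, ← hd'] at h
        simp only [A, Nat.cast_sub hp.pos, D] at h ⊢
        push_cast at h
        have h2 : (p : ℂ) * ((∑ x ∈ faithfulSet p q, (m χ x : ℂ))) =
            (p : ℂ) * ((∑ x ∈ faithfulSet p p, (m' x : ℂ))) := by linear_combination -h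
        exact_mod_cast mul_left_cancel₀ (Nat.cast_ne_zero.2 hp.ne_zero) h2
      obtain ⟨x0, hx0, hm0⟩ : ∃ x ∈ faithfulSet p p, m' x ≠ 0 := by
        by_contra hcon
        push Not at hcon
        refine hz1 (faithful (fun h => hχ (Subtype.ext h)) z ?_)
        have hev : ∀ j : ℕ, evalMult (ζ ^ r) m' j = ((∑ x, m' x : ℕ) : ℂ) := by
          intro j
          simp only [evalMult, Nat.cast_sum]
          refine Finset.sum_congr rfl fun x _ => ?_
          by_cases hx : x ∈ faithfulSet p p
          · rw [hcon x hx]; simp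
          · simp only [faithfulSet, Finset.mem_filter, Finset.mem_univ, true_and, not_not] at hx
            rw [(hω.pow_eq_one_iff_dvd _).2 (hx.mul_left j), mul_one]
        rw [← pow_one z, hm', hev, ← evalMult_zero (ζ ^ r), ← hm', pow_zero]
      have hx0' : x0 ≠ 0 := fun h => by simp [faithfulSet, h] at hx0
      have hle : e ≤ D χ := by
        rw [hD', he]
        have hsub : E.image (fun i : ℕ => (i : ZMod p) * x0) ⊆
            (faithfulSet p p).filter fun x => m' x ≠ 0 := by
          intro x hx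
          obtain ⟨i, hi, rfl⟩ := Finset.mem_image.1 hx
          simp only [hE, Finset.mem_filter, Finset.mem_Ico] at hi
          have hnd : ¬ p ∣ i := Nat.not_dvd_of_pos_of_lt hi.1.1 hi.1.2
          set t : (ZMod p)ˣ := ZMod.unitOfCoprime i ((hp.coprime_iff_not_dvd.2 hnd).symm) with ht
          have hscale : (fun x => m' (((t⁻¹ : (ZMod p)ˣ) : ZMod p) * x)) = m' := by
            refine mult_unique hω fun j => ?_
            rw [← evalMult_scale hω, ← hm', ← hm', ht, ZMod.coe_unitOfCoprime,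
              ZMod.val_cast_of_lt hi.1.2, mul_comm, pow_mul]
            obtain ⟨v, hv⟩ := isConj_iff.1 hi.2
            rw [← hv, conj_pow, IsIrr.isClassFunction χ.2]
          have hne0 : (i : ZMod p) * x0 ≠ 0 :=
            mul_ne_zero (fun h => hnd ((ZMod.natCast_eq_zero_iff _ _).1 h)) hx0'
          refine Finset.mem_filter.2 ⟨?_, ?_⟩
          · simp only [faithfulSet, Finset.mem_filter, Finset.mem_univ, true_and]
            intro h
            exact hne0 (by rw [← ZMod.natCast_zmod_val ((i : ZMod p) * x0), ZMod.natCast_eq_zero_iff]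
                           exact h)
          · rw [← congrFun hscale ((i : ZMod p) * x0)]
            convert hm0 using 2
            rw [← ZMod.coe_unitOfCoprime i ((hp.coprime_iff_not_dvd.2 hnd).symm), ← ht,
              Units.inv_mul_cancel_left]
        refine le_trans ?_ ((Finset.card_le_card hsub).trans ?_)
        · rw [Finset.card_image_of_injOn]
          intro i hi j hj hij
          simp only [hE, Finset.coe_filter, Set.mem_setOf_eq, Finset.mem_Ico] at hi hj
          have := mul_right_cancel₀ hx0' hij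
          rw [← ZMod.val_cast_of_lt hi.1.2, ← ZMod.val_cast_of_lt hj.1.2, this]
        · rw [Finset.card_eq_sum_ones, Finset.sum_filter]
          exact Finset.sum_le_sum fun x _ => by split_ifs <;> omega
      exact mul_le_mul_of_nonneg_left (by exact_mod_cast hle) (by omega)
    · -- Galois conjugates
      haveI : Fintype (ZMod q)ˣ := Fintype.ofFinite _
      choose σ hσ using fun t : (ZMod q)ˣ =>
        H43.exists_aut_pow (NeZero.ne q) (ZMod.val_coe_unit_coprime t)
      let T := Finset.univ.image fun t : (ZMod q)ˣ => twist (σ t) χ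
      have hmtw : ∀ (t : (ZMod q)ˣ) (x : ZMod q),
          m (twist (σ t) χ) ((t : ZMod q) * x) = m χ x := by
        intro t x
        have h : m (twist (σ t) χ) = fun x => m χ (((t⁻¹ : (ZMod q)ˣ) : ZMod q) * x) := by
          refine mult_unique hζ fun j => ?_
          rw [← evalMult_scale hζ, ← map_evalMult (σ t) (hσ t ζ hζ.pow_eq_one), ← hm, ← hm,
            twist_apply]
        rw [h]
        simp
      have hAtw : ∀ t, A (twist (σ t) χ) = A χ := by
        intro t
        have h := hA (twist (σ t) χ)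
        simp only [twist_apply] at h
        rw [← map_sum, hA, map_intCast] at h
        exact_mod_cast h.symm
      have hdtw : ∀ t, d (twist (σ t) χ) = d χ := by
        intro t
        have h := apply_one_eq_charDegree (twist (σ t) χ)
        rw [twist_apply, apply_one_eq_charDegree, map_natCast] at h
        exact_mod_cast h.symm
      have hDtw : ∀ t, D (twist (σ t) χ) = D χ := by
        intro t
        have h := hAtw t
        simp only [A, hdtw t] at h
        have h' : (p : ℤ) * D (twist (σ t) χ) = (p : ℤ) * D χ := by linarith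
        exact_mod_cast mul_left_cancel₀ (by exact_mod_cast hp.ne_zero : (p : ℤ) ≠ 0) h'
      have hTB : T ⊆ B.erase trivialIrr := by
        intro η hη
        obtain ⟨t, -, rfl⟩ := Finset.mem_image.1 hη
        refine Finset.mem_erase.2 ⟨fun h => hχ ?_, ?_⟩
        · refine Subtype.ext (funext fun g => (σ t).injective ?_)
          rw [← twist_apply, h, htriv1, map_one]
        · by_contra hnB
          have h1 : ∑ i ∈ Finset.Ico 1 p, sectionSum p (χ : G → ℂ) (z ^ i) = (nU : ℂ) * (A χ : ℂ) := by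
            rw [← hA, Finset.mul_sum]
            exact Finset.sum_congr rfl fun i hi => by rw [hS χ _ (hzi i hi).1, if_pos hχB]
          have h2 := congrArg (σ t) h1
          rw [map_sum, map_mul, map_natCast, map_intCast, Finset.sum_eq_zero fun i hi => ?_] at h2
          · exact absurd h2.symm (mul_ne_zero hnU0 (Int.cast_ne_zero.2 hpos.ne'))
          · rw [show (σ t) (sectionSum p (χ : G → ℂ) (z ^ i)) =
              sectionSum p (twist (σ t) χ : G → ℂ) (z ^ i) by simp [sectionSum, map_sum],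
              hS _ _ (hzi i hi).1, if_neg hnB]
      have h1 : (T.card : ℤ) * (A χ * A χ) ≤ ((p : ℤ) - 1) * e * q := by
        rw [← hsq]
        calc (T.card : ℤ) * (A χ * A χ) = ∑ η ∈ T, A η * A η := by
              rw [Finset.sum_congr rfl (g := fun _ => A χ * A χ) fun η hη => ?_, Finset.sum_const,
                nsmul_eq_mul]
              obtain ⟨t, -, rfl⟩ := Finset.mem_image.1 hη
              rw [hAtw]
          _ ≤ _ := Finset.sum_le_sum_of_subset_of_nonneg (hTB.trans (Finset.erase_subset _ _))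
              fun η _ _ => mul_self_nonneg _
      obtain ⟨x0, hx0, hm0⟩ : ∃ x ∈ faithfulSet p q, m χ x ≠ 0 := by
        by_contra hcon
        push Not at hcon
        have hD0 : D χ = 0 := Finset.sum_eq_zero hcon
        refine hz1 (faithful (fun h => hχ (Subtype.ext h)) z ?_)
        rw [hzdef, hm, apply_one_eq_charDegree, show Cfsg.charDegree (χ : G → ℂ) = d χ from rfl,
          hdsum, evalMult, Nat.cast_sum]
        refine Finset.sum_congr rfl fun x _ => ?_
        by_cases hx : x ∈ faithfulSet p q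
        · rw [hcon x hx]; simp
        · simp only [faithfulSet, Finset.mem_filter, Finset.mem_univ, true_and, not_not] at hx
          rw [(hζ.pow_eq_one_iff_dvd _).2
            ((dvd_of_eq (hqr.trans (mul_comm p r))).trans (mul_dvd_mul_left r hx)), mul_one]
      obtain ⟨u0, hu0⟩ := (mem_faithfulSet_iff_isUnit hq x0).1 hx0
      have hcover : (Finset.univ : Finset (ZMod q)ˣ).image (fun t : (ZMod q)ˣ => (t : ZMod q)) ⊆
          T.biUnion fun η => (faithfulSet p q).filter fun x => m η x ≠ 0 := by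
        intro x hx
        obtain ⟨v, -, rfl⟩ := Finset.mem_image.1 hx
        refine Finset.mem_biUnion.2 ⟨_, Finset.mem_image.2 ⟨v * u0⁻¹, Finset.mem_univ _, rfl⟩,
          Finset.mem_filter.2 ⟨(mem_faithfulSet_iff_isUnit hq _).2 v.isUnit, ?_⟩⟩
        have h := hmtw (v * u0⁻¹) x0
        rw [← hu0, ← Units.val_mul, inv_mul_cancel_right, hu0] at h
        rw [h]
        exact hm0
      have h2 : r * (p - 1) ≤ T.card * D χ := by
        calc r * (p - 1) = Fintype.card (ZMod q)ˣ := by
              rw [ZMod.card_units_eq_totient, hq, Nat.totient_prime_pow_succ hp, hr]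
          _ = ((Finset.univ : Finset (ZMod q)ˣ).image (fun t : (ZMod q)ˣ => (t : ZMod q))).card := by
              rw [Finset.card_image_of_injective _ Units.val_injective, Finset.card_univ]
          _ ≤ _ := (Finset.card_le_card hcover).trans Finset.card_biUnion_le
          _ ≤ _ := by
              refine (Finset.sum_le_card_nsmul _ _ (D χ) fun η hη => ?_).trans (le_of_eq (smul_eq_mul ..))
              obtain ⟨t, -, rfl⟩ := Finset.mem_image.1 hη
              rw [← hDtw t, Finset.card_eq_sum_ones, Finset.sum_filter]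
              exact Finset.sum_le_sum fun x _ => by split_ifs <;> omega
      have h2' : (r : ℤ) * ((p : ℤ) - 1) ≤ (T.card : ℤ) * D χ := by
        have := (Nat.cast_le (α := ℤ)).2 h2
        push_cast [Nat.cast_sub hp.pos] at this
        exact this
      have h3 := (mul_le_mul_of_nonneg_right h2' (mul_self_nonneg (A χ))).trans (le_of_eq
        (mul_right_comm (T.card : ℤ) (D χ : ℤ) _))
      have h4 := h3.trans (mul_le_mul_of_nonneg_right h1 (Int.natCast_nonneg _))
      have hrp : (0 : ℤ) < (r : ℤ) * ((p : ℤ) - 1) :=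
        mul_pos (by rw [hr]; exact_mod_cast pow_pos hp.pos a) (by omega)
      refine le_of_mul_le_mul_left (h4.trans (le_of_eq ?_)) hrp
      rw [hqr]
      push_cast
      ring
  have hlt := cube_sum_lt B htB (p := (p : ℤ)) (q := (q : ℤ)) (e := (e : ℤ)) ?_ ?_
    (by exact_mod_cast he2) (by omega) A (fun χ => (d χ : ℤ))
    (fun χ _ => by have := charDegree_pos χ; simp only [d]; omega) hAt hdt hsq horth hbound
  rotate_left
  · rcases (show p = 3 ∨ 5 ≤ p by
      by_contra h
      push Not at h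
      obtain rfl : p = 4 := by omega
      norm_num at hp) with rfl | h5
    · rcases Nat.eq_zero_or_pos a with rfl | ha
      · left; exact ⟨rfl, by exact_mod_cast hq.trans (by norm_num)⟩
      · right; left
        refine ⟨rfl, ?_⟩
        rw [hq]
        exact_mod_cast (le_of_eq (by norm_num : 9 = 3 ^ 2)).trans
          (Nat.pow_le_pow_right (by norm_num) (Nat.succ_le_succ ha))
    · right; right; exact_mod_cast h5
  · exact_mod_cast Nat.le_of_dvd (NeZero.pos q) (Dvd.intro r hqr.symm)
  -- counting products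
  have hsect : ∀ g ∈ K, ∀ y ∈ K, p ∣ orderOf (g * y) → orderOf (pPart (p := p) (g * y)) = p := by
    intro g hg y hy hd
    set L := Subgroup.closure ({g, y} : Set G) with hL
    have hgL : g ∈ L := Subgroup.subset_closure (by simp)
    have hyL : y ∈ L := Subgroup.subset_closure (by simp)
    have hns := not_sq_dvd (hc g y (Finset.mem_filter.1 hg).2 (Finset.mem_filter.1 hy).2) (hab L)
      (x := ⟨g, hgL⟩) (y := ⟨y, hyL⟩) ?_ (by rw [Subgroup.orderOf_mk]; exact (Finset.mem_filter.1 hg).2)
      (by rw [Subgroup.orderOf_mk]; exact (Finset.mem_filter.1 hy).2)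
    · rw [← Subgroup.orderOf_coe] at hns
      obtain ⟨v, hv⟩ := exists_orderOf_pPart (p := p) (g * y)
      have hdv : orderOf (pPart (p := p) (g * y)) ∣ orderOf (g * y) := by
        obtain ⟨w, hw, hcw, -, hwn⟩ := isPPart_pPart (p := p) (g * y)
        have h := hcw.orderOf_mul_eq_mul_orderOf_of_coprime
          (by rw [hv]; exact (hp.coprime_iff_not_dvd.2 hwn).pow_left v)
        rw [hw] at h
        exact Dvd.intro _ h.symm
      rcases v with _ | _ | v
      · rw [pow_zero, orderOf_eq_one_iff, pPart_eq_one_iff] at hv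
        exact absurd hd hv
      · rw [hv, pow_one]
      · exact absurd ((pow_dvd_pow p (by omega)).trans (hv ▸ hdv)) hns
    · apply Subgroup.map_injective L.subtype_injective
      rw [MonoidHom.map_closure, ← MonoidHom.range_eq_map, Subgroup.range_subtype, Set.image_pair]
      exact hL.symm
  set N0 : ℕ := ∑ g ∈ K, (K.filter fun y => ¬ p ∣ orderOf (g * y)).card with hN0
  set S1 : ℕ := ∑ g ∈ K, (K.filter fun y => orderOf (pPart (p := p) (g * y)) = p).card with hS1
  have hN0le : (p - 1) * N0 ≤ K.card * K.card := by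
    rw [hN0, Finset.mul_sum]
    refine (Finset.sum_le_sum fun g hg => ?_).trans (le_of_eq (by rw [Finset.sum_const, smul_eq_mul]))
    let S : ℕ → Finset G := fun i => K.filter fun y => ¬ p ∣ orderOf (g * y ^ i)
    have hScard : ∀ i ∈ Finset.Ico 1 p, (S i).card = (S 1).card := by
      intro i hi
      rw [Finset.mem_Ico] at hi
      have hcop : p.Coprime i := hp.coprime_iff_not_dvd.2 (Nat.not_dvd_of_pos_of_lt hi.1 hi.2)
      obtain ⟨j, hjlt, hj⟩ := Nat.exists_mul_mod_eq_one_of_coprime hcop.symm hp.one_lt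
      have hjc : p.Coprime j := hp.coprime_iff_not_dvd.2 fun h => by
        rw [Nat.mod_eq_zero_of_dvd (dvd_mul_of_dvd_right h i)] at hj
        exact zero_ne_one hj
      have hpow : ∀ y ∈ K, (y ^ i) ^ j = y ∧ (y ^ j) ^ i = y := by
        intro y hy
        have h1 : y ^ (i * j) = y := by
          rw [← pow_mod_orderOf, (Finset.mem_filter.1 hy).2, hj, pow_one]
        exact ⟨by rw [← pow_mul, h1], by rw [← pow_mul, mul_comm, h1]⟩
      refine Finset.card_bij' (fun y _ => y ^ i) (fun y _ => y ^ j) ?_ ?_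
        (fun y hy => (hpow y (Finset.mem_filter.1 hy).1).1)
        (fun y hy => (hpow y (Finset.mem_filter.1 hy).1).2)
      · intro y hy
        simp only [S, hK, Finset.mem_filter, Finset.mem_univ, true_and, pow_one] at hy ⊢
        exact ⟨by rw [Nat.Coprime.orderOf_pow (hy.1.symm ▸ hcop), hy.1], hy.2⟩
      · intro y hy
        simp only [S, Finset.mem_filter, pow_one] at hy ⊢
        refine ⟨?_, by rw [(hpow y hy.1).2]; exact hy.2⟩
        simp only [hK, Finset.mem_filter, Finset.mem_univ, true_and] at hy ⊢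
        rw [Nat.Coprime.orderOf_pow (hy.1.symm ▸ hjc), hy.1]
    have hdisj : ((Finset.Ico 1 p : Finset ℕ) : Set ℕ).PairwiseDisjoint S := by
      intro i hi j hj hne
      rw [Function.onFun, Finset.disjoint_left]
      intro y hy hy'
      simp only [S, Finset.mem_filter] at hy hy'
      have hyo := (Finset.mem_filter.1 hy.1).2
      have hgo := (Finset.mem_filter.1 hg).2
      simp only [Finset.coe_Ico, Set.mem_Ico] at hi hj
      set L := Subgroup.closure ({g, y} : Set G) with hL
      have hgL : g ∈ L := Subgroup.subset_closure (by simp)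
      have hyL : y ∈ L := Subgroup.subset_closure (by simp)
      have h := unique_power (hc g y hgo hyo) (hab L) (x := ⟨g, hgL⟩) (y := ⟨y, hyL⟩) ?_
        (by rw [Subgroup.orderOf_mk]; exact hgo) (by rw [Subgroup.orderOf_mk]; exact hyo)
        (i := i) (j := j) (by rw [← Subgroup.orderOf_coe]; exact hy.2)
        (by rw [← Subgroup.orderOf_coe]; exact hy'.2)
      · rw [Nat.mod_eq_of_lt hi.2, Nat.mod_eq_of_lt hj.2] at h
        exact hne h
      · apply Subgroup.map_injective L.subtype_injective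
        rw [MonoidHom.map_closure, ← MonoidHom.range_eq_map, Subgroup.range_subtype, Set.image_pair]
        exact hL.symm
    have hsum := Finset.card_le_card (Finset.biUnion_subset.2 (fun i _ => Finset.filter_subset _ K) :
      (Finset.Ico 1 p).biUnion S ⊆ K)
    rw [Finset.card_biUnion hdisj, Finset.sum_congr rfl hScard, Finset.sum_const, Nat.card_Ico,
      smul_eq_mul] at hsum
    simpa only [S, pow_one] using hsum
  have hsum : N0 + S1 = K.card * K.card := by
    rw [hN0, hS1, ← Finset.sum_add_distrib, Finset.sum_congr rfl (g := fun _ => K.card) fun g hg => ?_,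
      Finset.sum_const, smul_eq_mul]
    rw [Finset.filter_congr (p := fun y => orderOf (pPart (p := p) (g * y)) = p)
      (q := fun y => p ∣ orderOf (g * y)) fun y hy => ⟨fun h => ?_, hsect g hg y hy⟩]
    · rw [add_comm]; exact Finset.card_filter_add_card_filter_not (fun y => p ∣ orderOf (g * y))
    · by_contra hd
      rw [(pPart_eq_one_iff _).2 hd, orderOf_one] at h
      exact hp.ne_one h.symm
  set W := Finset.univ.filter fun w : G => orderOf (pPart (p := p) w) = p with hW
  have hS1w : S1 = ∑ w ∈ W, (K.filter fun g => g⁻¹ * w ∈ K).card := by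
    rw [hS1, ← Finset.card_sigma, ← Finset.card_sigma]
    refine Finset.card_bij' (fun q _ => (⟨q.1 * q.2, q.1⟩ : Σ _ : G, G))
      (fun q _ => (⟨q.2, q.2⁻¹ * q.1⟩ : Σ _ : G, G)) ?_ ?_ ?_ ?_
    · rintro ⟨g, y⟩ h
      simp only [hW, Finset.mem_sigma, Finset.mem_filter, Finset.mem_univ, true_and] at h ⊢
      rw [inv_mul_cancel_left]
      exact ⟨h.2.2, h.1, h.2.1⟩
    · rintro ⟨w, g⟩ h
      simp only [hW, Finset.mem_sigma, Finset.mem_filter, Finset.mem_univ, true_and] at h ⊢
      rw [mul_inv_cancel_left]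
      exact ⟨h.2.1, h.2.2, h.1⟩
    · rintro ⟨g, y⟩ _
      simp
    · rintro ⟨w, g⟩ _
      simp
  have hcoeff : ∀ w : G, ∑ i ∈ Finset.Ico 1 p, ∑ j ∈ Finset.Ico 1 p,
      (classSum (z ^ i) * classSum (z ^ j)).coeff w =
        (e : ℂ) * e * ((K.filter fun g => g⁻¹ * w ∈ K).card : ℂ) := by
    intro w
    simp only [H84.coeff_classSum_mul, Finset.natCast_card_filter, Finset.mul_sum]
    rw [Finset.sum_congr rfl fun i _ => Finset.sum_comm, Finset.sum_comm]
    rw [← Finset.sum_filter_add_sum_filter_not Finset.univ (fun g : G => g ∈ K), add_comm,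
      Finset.sum_eq_zero fun g hg => ?_, zero_add]
    · rw [show Finset.univ.filter (fun g : G => g ∈ K) = K by ext; simp]
      refine Finset.sum_congr rfl fun g hg => ?_
      by_cases hy : g⁻¹ * w ∈ K
      · rw [if_pos hy, mul_one, Finset.sum_congr rfl (g := fun i =>
          (if IsConj (z ^ i) g then (e : ℂ) else 0)) fun i _ => ?_, ← Finset.sum_filter,
          Finset.sum_const, hcount_e g hg, nsmul_eq_mul]
        split_ifs with h
        · simp only [h, true_and]
          rw [← Finset.natCast_card_filter, hcount_e _ hy]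
        · exact Finset.sum_eq_zero fun j _ => if_neg fun h' => h h'.1
      · rw [if_neg hy, mul_zero]
        refine Finset.sum_eq_zero fun i _ => Finset.sum_eq_zero fun j hj => if_neg fun h => hy ?_
        obtain ⟨v, hv⟩ := isConj_iff.1 h.2
        rw [← hv, hK, Finset.mem_filter, ← MulAut.conj_apply, MulEquiv.orderOf_eq]
        exact ⟨Finset.mem_univ _, (hzi j hj).1⟩
    · refine Finset.sum_eq_zero fun i hi => Finset.sum_eq_zero fun j _ => if_neg fun h =>
        (Finset.mem_filter.1 hg).2 ?_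
      obtain ⟨v, hv⟩ := isConj_iff.1 h.1
      rw [← hv, hK, Finset.mem_filter, ← MulAut.conj_apply, MulEquiv.orderOf_eq]
      exact ⟨Finset.mem_univ _, (hzi i hi).1⟩
  have hWsum : ∀ χ : Cfsg.IrrCharacter G, (e : ℂ) * ∑ w ∈ W, conj ((χ : G → ℂ) w) =
      if χ ∈ B then (nU : ℂ) * ((k : ℂ) * (A χ : ℂ)) else 0 := by
    intro χ
    rw [← map_sum, hW, sum_pPart_eq, Finset.sum_congr rfl fun u hu => hS χ u (Finset.mem_filter.1 hu).2]
    split_ifs with h
    · rw [← Finset.mul_sum, map_mul, map_natCast, map_sum, mul_left_comm,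
        hdouble (fun g => conj ((χ : G → ℂ) g)) fun g v => by rw [IsIrr.isClassFunction χ.2], hAconj]
    · simp
  set T : ℚ := ∑ χ ∈ B, (A χ : ℚ) ^ 3 / ((d χ : ℤ) : ℚ) with hT
  have hGcard : (Nat.card G : ℂ) = (k : ℂ) * ((nU : ℂ) * q) := by
    rw [← hk, ← Subgroup.card_mul_index C, hCcard]
    push_cast
    ring
  have hk0 : (k : ℂ) ≠ 0 := by
    rw [← hk]; exact Nat.cast_ne_zero.2 Subgroup.index_ne_zero_of_finite
  have hq0 : (q : ℂ) ≠ 0 := Nat.cast_ne_zero.2 (NeZero.ne q)
  have hformula : (e : ℂ) ^ 3 * (q : ℂ) * (S1 : ℂ) = (k : ℂ) ^ 2 * (T : ℂ) := by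
    have h1 : (e : ℂ) * ((e : ℂ) * e * (S1 : ℂ)) = (Nat.card G : ℂ)⁻¹ *
        ∑ χ : Cfsg.IrrCharacter G, (k : ℂ) ^ 2 * (A χ : ℂ) ^ 2 / (d χ : ℂ) *
          ((e : ℂ) * ∑ w ∈ W, conj ((χ : G → ℂ) w)) := by
      have hcw : ∀ w : G, ∑ i ∈ Finset.Ico 1 p, ∑ j ∈ Finset.Ico 1 p,
          (classSum (z ^ i) * classSum (z ^ j)).coeff w = (Nat.card G : ℂ)⁻¹ *
            ∑ χ : Cfsg.IrrCharacter G,
              (k : ℂ) ^ 2 * (A χ : ℂ) ^ 2 / (d χ : ℂ) * conj ((χ : G → ℂ) w) := by
        intro w
        simp only [H84.coeff_classSum_mul_eq, ← Finset.mul_sum]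
        congr 1
        rw [Finset.sum_congr rfl fun i _ => Finset.sum_comm, Finset.sum_comm]
        refine Finset.sum_congr rfl fun χ _ => ?_
        simp only [← Finset.sum_mul, ← Finset.mul_sum]
        have hω : ∀ i ∈ Finset.Ico 1 p, Cfsg.centralChar (χ : G → ℂ) (z ^ i) =
            (k : ℂ) * (χ : G → ℂ) (z ^ i) / (d χ : ℂ) := by
          intro i hi
          rw [Cfsg.centralChar, (hzi i hi).2, hk, apply_one_eq_charDegree]
        rw [Finset.sum_congr rfl hω, ← Finset.sum_div, ← Finset.mul_sum, hA, apply_one_eq_charDegree]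
        have hd0 : (d χ : ℂ) ≠ 0 := Nat.cast_ne_zero.2 (charDegree_pos χ).ne'
        simp only [d] at hd0 ⊢
        field_simp
      rw [hS1w, Nat.cast_sum, Finset.mul_sum, ← Finset.sum_congr rfl fun w _ => hcoeff w,
        Finset.sum_congr rfl fun w _ => hcw w, ← Finset.mul_sum, Finset.sum_comm, mul_left_comm,
        Finset.mul_sum (a := (e : ℂ))]
      refine congrArg _ (Finset.sum_congr rfl fun χ _ => ?_)
      rw [← Finset.mul_sum]
      ring
    simp only [hWsum, mul_ite, mul_zero] at h1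
    rw [Finset.sum_ite_mem, Finset.univ_inter, hGcard] at h1
    have h2 : ∑ χ ∈ B, (k : ℂ) ^ 2 * (A χ : ℂ) ^ 2 / (d χ : ℂ) * ((nU : ℂ) * ((k : ℂ) * (A χ : ℂ))) =
        (k : ℂ) ^ 3 * (nU : ℂ) * (T : ℂ) := by
      rw [hT, Rat.cast_sum, Finset.mul_sum]
      refine Finset.sum_congr rfl fun χ _ => ?_
      push_cast
      ring
    rw [h2] at h1
    field_simp at h1
    linear_combination h1
  have hQ : (e : ℚ) ^ 3 * (q : ℚ) * (S1 : ℚ) = (k : ℚ) ^ 2 * T := by
    have h : (((e : ℚ) ^ 3 * (q : ℚ) * (S1 : ℚ) : ℚ) : ℂ) = (((k : ℚ) ^ 2 * T : ℚ) : ℂ) := by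
      push_cast
      exact hformula
    exact_mod_cast h
  have hKQ : (e : ℚ) * (K.card : ℚ) = (k : ℚ) * ((p : ℚ) - 1) := by
    have h : (((e : ℚ) * (K.card : ℚ) : ℚ) : ℂ) = (((k : ℚ) * ((p : ℚ) - 1) : ℚ) : ℂ) := by
      push_cast
      rw [hKcard, Nat.cast_sub hp.pos]
      simp
    exact_mod_cast h
  have hS1Q : ((p : ℚ) - 2) * ((K.card : ℚ) * K.card) ≤ ((p : ℚ) - 1) * (S1 : ℚ) := by
    have h1 : ((p : ℚ) - 1) * (N0 : ℚ) ≤ (K.card : ℚ) * K.card := by
      have := (Nat.cast_le (α := ℚ)).2 hN0le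
      push_cast [Nat.cast_sub hp.pos] at this
      exact this
    have h2 : (N0 : ℚ) + S1 = (K.card : ℚ) * K.card := by exact_mod_cast hsum
    have h3 := congrArg (fun v => ((p : ℚ) - 1) * v) h2
    linarith
  have hlt' : T < ((p : ℚ) - 1) * ((p : ℚ) - 2) * e * q := by
    push_cast at hlt
    exact hlt
  have hkQ : (0 : ℚ) < (k : ℚ) ^ 2 := by
    have : 0 < k := hk ▸ Nat.pos_of_ne_zero Subgroup.index_ne_zero_of_finite
    positivity
  have hp1 : (0 : ℚ) < (p : ℚ) - 1 := by
    have : (3 : ℚ) ≤ p := by exact_mod_cast hp3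
    linarith
  have h5 := mul_le_mul_of_nonneg_left hS1Q (show (0 : ℚ) ≤ (e : ℚ) ^ 3 * q by positivity)
  have h6 := mul_lt_mul_of_pos_left hlt' (mul_pos hkQ hp1)
  have h7 : (e : ℚ) ^ 3 * q * (((p : ℚ) - 2) * ((K.card : ℚ) * K.card)) =
      (k : ℚ) ^ 2 * ((p : ℚ) - 1) * (((p : ℚ) - 1) * ((p : ℚ) - 2) * e * q) := by
    calc (e : ℚ) ^ 3 * q * (((p : ℚ) - 2) * ((K.card : ℚ) * K.card))
        = (e : ℚ) * q * ((p : ℚ) - 2) * (((e : ℚ) * K.card) * ((e : ℚ) * K.card)) := by ring
      _ = _ := by rw [hKQ]; ring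
  have h8 : (e : ℚ) ^ 3 * q * (((p : ℚ) - 1) * (S1 : ℚ)) = (k : ℚ) ^ 2 * ((p : ℚ) - 1) * T := by
    linear_combination ((p : ℚ) - 1) * hQ
  linarith

end Cfsg.Agent.H81.CyclicPair
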